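import Mathlib
import Cfsg.Prelude.Def_Characters
import Cfsg.Agent.Helper6.GallagherProd
import Cfsg.Agent.Helper6.Gallagher
import Cfsg.Agent.Helper6.MGroup

/-!
# S4640, piece [D]: Gallagher count over an abelian quotient

If `θ ∈ Irr(N)` extends to `χ₀ ∈ Irr(G)` and `G / N` is abelian, then `θ` has exactly `|G : N|`
extensions to `G`.
-/

set_option autoImplicit false
set_option linter.style.haveILetI false

namespace Cfsg.Agent.Blk46

open Cfsg.Agent.Helper6
open scoped ComplexConjugate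

universe u

variable {G : Type u} [Group G] [Fintype G]

/-- An irreducible character with `N` in its kernel, `G / N` abelian, is linear. -/
theorem b46_D_linear (N : Subgroup G) [N.Normal] (hab : ∀ a b : G, a * b * a⁻¹ * b⁻¹ ∈ N)
    (β : G → ℂ) (hβ : Cfsg.IsIrrCharacter G β) (hker : ∀ n ∈ N, β n = β 1) : β 1 = 1 := by
  obtain ⟨m, ρ, hirr, rfl⟩ := hβ
  haveI := hirr
  have hρN : ∀ n ∈ N, ρ n = 1 := by
    intro n hn
    have h1 := hker n hn
    rw [Representation.char_one] at h1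
    exact (char_eq_finrank_iff ρ n).mp h1
  have h2 := finrank_eq_one_of_commutators_trivial ρ (fun a b => hρN _ (hab a b))
  rw [Representation.char_one, h2, Nat.cast_one]

/-- Inner product of the induced trivial character with an irreducible character. -/
theorem b46_D_src (N : Subgroup G) [N.Normal] (β : G → ℂ) (hβ : Cfsg.IsIrrCharacter G β) :
    Cfsg.classInner (Cfsg.indFun N (fun _ : N => (1 : ℂ))) β ≠ 0 ↔ ∀ n ∈ N, β n = β 1 := by
  classical
  haveI : Fintype N := Fintype.ofFinite N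
  have hN0 : (Nat.card N : ℂ) ≠ 0 := by
    have : 0 < Nat.card N := Nat.card_pos
    exact_mod_cast this.ne'
  rw [frobenius_reciprocity N _ β (IsCharacter.isClassFunction (IsIrrCharacter.isCharacter hβ))]
  have hsum := sum_coset_irr N hβ (1 : G)
  simp only [one_mul] at hsum
  have hval : Cfsg.classInner (fun _ : N => (1 : ℂ)) (fun h : N => β h) =
      conj ((Nat.card N : ℂ)⁻¹ * ∑ n : N, β n) := by
    rw [classInner_def]
    simp only [one_mul, map_mul, map_inv₀, map_natCast, map_sum]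
  rw [hval, hsum]
  split_ifs with h
  · constructor
    · intro _
      exact h
    · intro _
      rw [← mul_assoc, inv_mul_cancel₀ hN0, one_mul]
      intro h0
      exact IsIrrCharacter.apply_one_ne_zero hβ ((map_eq_zero _).mp h0)
  · constructor
    · intro h0
      exfalso
      apply h0
      simp
    · intro h'
      exact absurd h' h

/-- **Piece [D] of S4640** (Gallagher): if `θ ∈ Irr(N)` extends to `χ₀ ∈ Irr(G)` and `G / N` is
abelian, the number of extensions of `θ` to `G` is `|G : N|`. -/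
theorem b46_D (N : Subgroup G) [N.Normal] (hab : ∀ a b : G, a * b * a⁻¹ * b⁻¹ ∈ N)
    (θ : Cfsg.IrrCharacter N) (χ₀ : Cfsg.IrrCharacter G)
    (h₀ : ∀ n : N, (χ₀ : G → ℂ) n = (θ : N → ℂ) n) :
    Nat.card {χ : Cfsg.IrrCharacter G // ∀ n : N, (χ : G → ℂ) n = (θ : N → ℂ) n} = N.index := by
  classical
  haveI : Fintype N := Fintype.ofFinite N
  haveI : Finite (Cfsg.IrrCharacter G) := irr_finite
  haveI : Fintype (Cfsg.IrrCharacter G) := Fintype.ofFinite _
  have hN : N.Normal := inferInstance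
  set χ : G → ℂ := (χ₀ : G → ℂ) with hχdef
  have hχ : Cfsg.IsIrrCharacter G χ := χ₀.2
  set ϑ : N → ℂ := (θ : N → ℂ) with hϑdef
  have hϑ : Cfsg.IsIrrCharacter N ϑ := θ.2
  have hχcf := IsCharacter.isClassFunction (IsIrrCharacter.isCharacter hχ)
  have hϑinv : ∀ (g : G) (n : N), ϑ ⟨g * n * g⁻¹, hN.conj_mem (n : G) n.2 g⟩ = ϑ n := by
    intro g n
    rw [← h₀, ← h₀]
    exact hχcf (n : G) g
  have hone : Cfsg.IsIrrCharacter N (fun _ : N => (1 : ℂ)) := isIrrCharacter_one
  have hmul : (fun _ : N => (1 : ℂ)) * ϑ = ϑ := by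
    ext n
    simp
  have hprod : Cfsg.IsIrrCharacter N ((fun _ : N => (1 : ℂ)) * ϑ) := by
    rw [hmul]
    exact hϑ
  have hbij := mul_ext_bijOn N (fun _ : N => (1 : ℂ)) ϑ hone (fun _ _ => rfl) hϑinv hprod χ hχ
    (fun n => h₀ n)
  rw [hmul] at hbij
  -- the kernel set
  set T : Type u := {β : Cfsg.IrrCharacter G // ∀ n ∈ N, (β : G → ℂ) n = (β : G → ℂ) 1} with hT
  have hlin : ∀ β : T, ((β : Cfsg.IrrCharacter G) : G → ℂ) 1 = 1 := fun β =>
    b46_D_linear N hab _ β.1.2 β.2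
  have hsrc : ∀ β : T, ((β : Cfsg.IrrCharacter G) : G → ℂ) ∈
      {β : G → ℂ | Cfsg.IsIrrCharacter G β ∧
        Cfsg.classInner (Cfsg.indFun N (fun _ : N => (1 : ℂ))) β ≠ 0} :=
    fun β => ⟨β.1.2, (b46_D_src N _ β.1.2).mpr β.2⟩
  have hrestr : ∀ β : T, ∀ n : N, (((β : Cfsg.IrrCharacter G) : G → ℂ) * χ) n = ϑ n := by
    intro β n
    simp only [Pi.mul_apply]
    rw [β.2 n n.2, hlin β, one_mul, h₀ n]
  -- the map
  let f : T → {χ' : Cfsg.IrrCharacter G // ∀ n : N, (χ' : G → ℂ) n = ϑ n} := fun β =>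
    ⟨⟨((β : Cfsg.IrrCharacter G) : G → ℂ) * χ, (hbij.mapsTo (hsrc β)).1⟩, hrestr β⟩
  have hfinj : Function.Injective f := by
    intro β β' h
    have h1 : ((β : Cfsg.IrrCharacter G) : G → ℂ) * χ = ((β' : Cfsg.IrrCharacter G) : G → ℂ) * χ := by
      have := congrArg (fun s => ((s.1 : Cfsg.IrrCharacter G) : G → ℂ)) h
      exact this
    have h2 := hbij.injOn (hsrc β) (hsrc β') h1
    exact Subtype.ext (Subtype.ext h2)
  have hfsurj : Function.Surjective f := by
    intro s
    have htgt : ((s : Cfsg.IrrCharacter G) : G → ℂ) ∈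
        {ψ : G → ℂ | Cfsg.IsIrrCharacter G ψ ∧ Cfsg.classInner (Cfsg.indFun N ϑ) ψ ≠ 0} := by
      refine ⟨s.1.2, ?_⟩
      rw [frobenius_reciprocity N ϑ _
        (IsCharacter.isClassFunction (IsIrrCharacter.isCharacter s.1.2))]
      have : (fun h : N => ((s : Cfsg.IrrCharacter G) : G → ℂ) h) = ϑ := by
        ext n
        exact s.2 n
      rw [this, classInner_irr_self hϑ]
      exact one_ne_zero
    obtain ⟨β₀, hβ₀, hβ₀eq⟩ := hbij.surjOn htgt
    refine ⟨⟨⟨β₀, hβ₀.1⟩, (b46_D_src N β₀ hβ₀.1).mp hβ₀.2⟩, ?_⟩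
    apply Subtype.ext
    apply Subtype.ext
    exact hβ₀eq
  have hcard : Nat.card {χ' : Cfsg.IrrCharacter G // ∀ n : N, (χ' : G → ℂ) n = ϑ n} = Nat.card T :=
    (Nat.card_congr (Equiv.ofBijective f ⟨hfinj, hfsurj⟩)).symm
  rw [hcard]
  -- count the kernel set
  have hsum := sum_degree_mul_irr_of_le_ker N (1 : G)
  rw [if_pos (one_mem N)] at hsum
  have hsum' : ∑ β ∈ Finset.univ.filter (fun β : Cfsg.IrrCharacter G => ∀ n ∈ N, (β : G → ℂ) n =
      (β : G → ℂ) 1), (1 : ℂ) = (N.index : ℂ) := by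
    rw [← hsum]
    apply Finset.sum_congr rfl
    intro β hβ
    rw [Finset.mem_filter] at hβ
    have := b46_D_linear N hab _ β.2 hβ.2
    rw [this, one_mul]
  rw [Finset.sum_const, nsmul_eq_mul, mul_one] at hsum'
  have hcardT : Nat.card T = (Finset.univ.filter (fun β : Cfsg.IrrCharacter G =>
      ∀ n ∈ N, (β : G → ℂ) n = (β : G → ℂ) 1)).card := by
    rw [hT, Nat.card_eq_fintype_card, Fintype.card_subtype]
  rw [hcardT]
  exact_mod_cast hsum'

end Cfsg.Agent.Blk46
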