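import Mathlib
import Cfsg.Prelude.Def_BlockRank

set_option autoImplicit false
set_option linter.unusedSectionVars false

/-! S4640 swarm, piece [E] (helper7): for `N ⊴ G` of `p`-power index the `p`-regular elements of
`G` lie in `N`, so two sets of irreducible characters that correspond under restriction to `N`
have the same `blockRank`. -/

namespace Cfsg.Agent.Blk46

open Cfsg

universe u

variable {G : Type u} [Group G] [Fintype G]

/-- a `p`-regular element lies in every normal subgroup of `p`-power index -/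
theorem b46_mem_of_isPRegular (p : ℕ) [Fact p.Prime] (N : Subgroup G) [N.Normal]
    (hNi : ∃ k : ℕ, N.index = p ^ k) (g : G) (hg : Cfsg.IsPRegular p g) : g ∈ N := by
  obtain ⟨k, hk⟩ := hNi
  have hp : p.Prime := Fact.out
  -- the image of `g` in `G ⧸ N`
  have h1 : orderOf (QuotientGroup.mk' N g) ∣ orderOf g := orderOf_map_dvd _ g
  have hfin : Finite (G ⧸ N) := inferInstance
  have h2 : orderOf (QuotientGroup.mk' N g) ∣ p ^ k := by
    rw [← hk, Subgroup.index_eq_card]
    exact orderOf_dvd_natCard _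
  have h3 : orderOf (QuotientGroup.mk' N g) = 1 := by
    obtain ⟨j, _, hj⟩ := (Nat.dvd_prime_pow hp).mp h2
    rcases Nat.eq_zero_or_pos j with h0 | hpos
    · rw [hj, h0, pow_zero]
    · exfalso
      apply hg
      refine dvd_trans ?_ h1
      rw [hj]
      exact dvd_pow_self p hpos.ne'
  rw [orderOf_eq_one_iff] at h3
  exact (QuotientGroup.eq_one_iff g).mp h3


/-- restriction of functions to `N`, as a linear map -/
noncomputable def b46_res (N : Subgroup G) : (G → ℂ) →ₗ[ℂ] (N → ℂ) where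
  toFun f := fun n => f n
  map_add' _ _ := rfl
  map_smul' _ _ := rfl

/-- extension by zero of functions on `N`, as a linear map -/
noncomputable def b46_ext (N : Subgroup G) : (N → ℂ) →ₗ[ℂ] (G → ℂ) where
  toFun h := fun g => by classical exact if hg : g ∈ N then h ⟨g, hg⟩ else 0
  map_add' a b := by
    funext g
    by_cases hg : g ∈ N <;> simp [hg]
  map_smul' c a := by
    funext g
    by_cases hg : g ∈ N <;> simp [hg]

theorem b46_res_apply (N : Subgroup G) (f : G → ℂ) (n : N) : b46_res N f n = f n := rfl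

theorem b46_ext_apply_mem (N : Subgroup G) (h : N → ℂ) (g : G) (hg : g ∈ N) :
    b46_ext N h g = h ⟨g, hg⟩ := by
  show (by classical exact if hg : g ∈ N then h ⟨g, hg⟩ else 0 : ℂ) = _
  simp [hg]

theorem b46_ext_apply_not_mem (N : Subgroup G) (h : N → ℂ) (g : G) (hg : g ∉ N) :
    b46_ext N h g = 0 := by
  show (by classical exact if hg : g ∈ N then h ⟨g, hg⟩ else 0 : ℂ) = _
  simp [hg]

theorem b46_isPRegular_coe (p : ℕ) (N : Subgroup G) (n : N) :
    Cfsg.IsPRegular p (n : G) ↔ Cfsg.IsPRegular p n := by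
  unfold Cfsg.IsPRegular
  rw [Subgroup.orderOf_coe]

theorem b46_pRegularPart_apply (p : ℕ) {H : Type u} [Group H] (χ : H → ℂ) (g : H) :
    Cfsg.pRegularPart p χ g = (by classical exact if Cfsg.IsPRegular p g then χ g else 0 : ℂ) := rfl

theorem b46_pRegularPart_of_reg (p : ℕ) {H : Type u} [Group H] (χ : H → ℂ) (g : H)
    (hg : Cfsg.IsPRegular p g) : Cfsg.pRegularPart p χ g = χ g := by
  rw [b46_pRegularPart_apply]
  simp [hg]

theorem b46_pRegularPart_of_not_reg (p : ℕ) {H : Type u} [Group H] (χ : H → ℂ) (g : H)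
    (hg : ¬ Cfsg.IsPRegular p g) : Cfsg.pRegularPart p χ g = 0 := by
  rw [b46_pRegularPart_apply]
  simp [hg]

/-- restriction commutes with taking `p`-regular parts -/
theorem b46_res_pRegularPart (p : ℕ) (N : Subgroup G) (χ : G → ℂ) (θ : N → ℂ)
    (h : ∀ n : N, χ n = θ n) :
    b46_res N (Cfsg.pRegularPart p χ) = Cfsg.pRegularPart p θ := by
  funext n
  rw [b46_res_apply]
  by_cases hn : Cfsg.IsPRegular p n
  · rw [b46_pRegularPart_of_reg p θ n hn,
      b46_pRegularPart_of_reg p χ n ((b46_isPRegular_coe p N n).mpr hn), h]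
  · rw [b46_pRegularPart_of_not_reg p θ n hn,
      b46_pRegularPart_of_not_reg p χ n (fun h' => hn ((b46_isPRegular_coe p N n).mp h'))]

/-- extension by zero recovers the `p`-regular part when `N` has `p`-power index -/
theorem b46_ext_res_pRegularPart (p : ℕ) [Fact p.Prime] (N : Subgroup G) [N.Normal]
    (hNi : ∃ k : ℕ, N.index = p ^ k) (χ : G → ℂ) :
    b46_ext N (b46_res N (Cfsg.pRegularPart p χ)) = Cfsg.pRegularPart p χ := by
  funext g
  by_cases hg : g ∈ N
  · rw [b46_ext_apply_mem N _ g hg, b46_res_apply]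
  · rw [b46_ext_apply_not_mem N _ g hg,
      b46_pRegularPart_of_not_reg p χ g (fun h' => hg (b46_mem_of_isPRegular p N hNi g h'))]

/-- **Piece [E].** -/
theorem b46_E (p : ℕ) [Fact p.Prime] (N : Subgroup G) [N.Normal]
    (hNi : ∃ k : ℕ, N.index = p ^ k) (B : Set (Cfsg.IrrCharacter G))
    (b : Set (Cfsg.IrrCharacter N))
    (h1 : ∀ χ ∈ B, ∃ θ ∈ b, ∀ n : N, (χ : G → ℂ) n = (θ : N → ℂ) n)
    (h2 : ∀ θ ∈ b, ∃ χ ∈ B, ∀ n : N, (χ : G → ℂ) n = (θ : N → ℂ) n) :
    Cfsg.blockRank p B = Cfsg.blockRank p b := by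
  unfold Cfsg.blockRank
  set SB : Set (G → ℂ) := (fun χ : IrrCharacter G => pRegularPart p (χ : G → ℂ)) '' B with hSB
  set Sb : Set (N → ℂ) := (fun θ : IrrCharacter N => pRegularPart p (θ : N → ℂ)) '' b with hSb
  -- the image of `SB` under restriction is `Sb`
  have himg : (b46_res N) '' SB = Sb := by
    apply Set.eq_of_subset_of_subset
    · rintro _ ⟨_, ⟨χ, hχ, rfl⟩, rfl⟩
      obtain ⟨θ, hθ, hθχ⟩ := h1 χ hχ
      exact ⟨θ, hθ, (b46_res_pRegularPart p N _ _ hθχ).symm⟩
    · rintro _ ⟨θ, hθ, rfl⟩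
      obtain ⟨χ, hχ, hθχ⟩ := h2 θ hθ
      exact ⟨_, ⟨χ, hχ, rfl⟩, b46_res_pRegularPart p N _ _ hθχ⟩
  have hmap : Submodule.map (b46_res N) (Submodule.span ℂ SB) = Submodule.span ℂ Sb := by
    rw [Submodule.map_span, himg]
  -- `ext ∘ res` is the identity on the span of `SB`
  have hid : ∀ f ∈ Submodule.span ℂ SB, b46_ext N (b46_res N f) = f := by
    intro f hf
    have hle : Submodule.span ℂ SB ≤
        LinearMap.eqLocus ((b46_ext N).comp (b46_res N)) LinearMap.id := by
      rw [Submodule.span_le]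
      rintro _ ⟨χ, _, rfl⟩
      exact b46_ext_res_pRegularPart p N hNi _
    exact hle hf
  have hinj : Function.Injective ((b46_res N).domRestrict (Submodule.span ℂ SB)) := by
    intro x y hxy
    apply Subtype.ext
    have hx := hid x x.2
    have hy := hid y y.2
    have : b46_res N (x : G → ℂ) = b46_res N (y : G → ℂ) := hxy
    rw [← hx, ← hy, this]
  have hfr := LinearMap.finrank_range_of_inj hinj
  rw [LinearMap.range_domRestrict, hmap] at hfr
  exact hfr.symm

end Cfsg.Agent.Blk46
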