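import Mathlib
import Cfsg.Prelude.Def_Characters
import Cfsg.Prelude.Def_Blocks
import Cfsg.Agent.Helper6.Gallagher
import Cfsg.Agent.Helper6.IrrCrit
import Cfsg.Agent.Helper6.Induced
import Cfsg.Agent.Helper6.Linear
import Cfsg.Agent.Helper6.MultChA
import Cfsg.Agent.Helper6.DerivedLengthBad

/-!
# S4640 (swarm "Blk46", architect helper6), piece [F] (helper9)

`G / N` an abelian `p`-group, `χ ∈ Irr(G)` with `χ_N` reducible: then `χ` vanishes off a normal
subgroup `K ⊇ N` of index `p`.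

Proof: `[χ_N, χ_N] = #{λ ∈ Irr(G/N) : λ χ = χ}` (all `λ` linear as `G / N` is abelian), so some `λ ≠ 1`
has `λ χ = χ`; `χ` vanishes off `H = ker λ`, and `H` lies in a subgroup of index `p`.
-/

set_option autoImplicit false
set_option linter.style.haveILetI false
set_option linter.unusedSectionVars false

namespace Cfsg.Agent.Blk46

open ComplexConjugate Cfsg.Agent.Helper6

universe u

variable {G : Type u} [Group G] [Fintype G]

/-- a subgroup containing all commutators is normal -/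
theorem b46_F_normal_of_comm (N K : Subgroup G) (hab : ∀ a b : G, a * b * a⁻¹ * b⁻¹ ∈ N)
    (hNK : N ≤ K) : K.Normal := by
  refine ⟨fun k hk g => ?_⟩
  have h1 : g * k * g⁻¹ = (g * k * g⁻¹ * k⁻¹) * k := by group
  rw [h1]
  exact K.mul_mem (hNK (hab g k)) hk

/-- a proper subgroup containing `N` (of `p`-power index, containing all commutators) lies in a normal subgroup
of index `p` -/
theorem b46_F_exists_K (p : ℕ) [hp : Fact p.Prime] (N H : Subgroup G) (hNi : ∃ k : ℕ, N.index = p ^ k)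
    (hab : ∀ a b : G, a * b * a⁻¹ * b⁻¹ ∈ N) (hNH : N ≤ H) (hH : H ≠ ⊤) :
    ∃ K : Subgroup G, K.Normal ∧ H ≤ K ∧ K.index = p := by
  haveI hHn : H.Normal := b46_F_normal_of_comm N H hab hNH
  obtain ⟨k, hk⟩ := hNi
  have hdvd : H.index ∣ p ^ k := hk ▸ Subgroup.index_dvd_of_le hNH
  obtain ⟨j, -, hj⟩ := (Nat.dvd_prime_pow hp.out).mp hdvd
  have hj0 : j ≠ 0 := by
    rintro rfl
    rw [pow_zero] at hj
    exact hH (Subgroup.index_eq_one.mp hj)
  have hcard : Nat.card (G ⧸ H) = p ^ j := by rw [← Subgroup.index_eq_card, hj]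
  have hdvd2 : p ^ (j - 1) ∣ Nat.card (G ⧸ H) := by
    rw [hcard]
    exact pow_dvd_pow p (Nat.sub_le j 1)
  obtain ⟨K', hK'⟩ := Sylow.exists_subgroup_card_pow_prime p hdvd2
  have hidx : K'.index = p := by
    have h1 := Subgroup.card_mul_index K'
    rw [hK', hcard] at h1
    have h2 : p ^ j = p ^ (j - 1) * p := by
      rw [← pow_succ, Nat.sub_add_cancel (Nat.pos_of_ne_zero hj0)]
    rw [h2] at h1
    exact Nat.eq_of_mul_eq_mul_left (pow_pos hp.out.pos _) h1
  refine ⟨K'.comap (QuotientGroup.mk' H), ?_, ?_, ?_⟩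
  · apply b46_F_normal_of_comm N _ hab
    intro n hn
    rw [Subgroup.mem_comap]
    have : (QuotientGroup.mk' H) n = 1 := (QuotientGroup.eq_one_iff n).mpr (hNH hn)
    rw [this]
    exact K'.one_mem
  · intro h hh
    rw [Subgroup.mem_comap]
    have : (QuotientGroup.mk' H) h = 1 := (QuotientGroup.eq_one_iff h).mpr hh
    rw [this]
    exact K'.one_mem
  · rw [Subgroup.index_comap_of_surjective K' (QuotientGroup.mk'_surjective H), hidx]

/-- irreducible characters with `N` in the kernel are linear (value `1` at `1`) when `G / N` is abelian -/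
theorem b46_F_lin (N : Subgroup G) [N.Normal] (hab : ∀ a b : G, a * b * a⁻¹ * b⁻¹ ∈ N)
    (ξ : Cfsg.IrrCharacter G) (hker : ∀ n ∈ N, (ξ : G → ℂ) n = (ξ : G → ℂ) 1) :
    (ξ : G → ℂ) 1 = 1 := by
  have h1 := linear_of_abelian_quotient N ξ hker hab
  obtain ⟨K, -, -, -, h2, -⟩ := exists_kernel_data ξ.2
  rw [h2, h1, Nat.cast_one]

/-- the inflated regular character of the abelian group `G / N` as a sum of linear characters -/
theorem b46_F_sum [Fintype (Cfsg.IrrCharacter G)] (N : Subgroup G) [N.Normal]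
    (hab : ∀ a b : G, a * b * a⁻¹ * b⁻¹ ∈ N)
    [DecidablePred fun ξ : Cfsg.IrrCharacter G => ∀ n ∈ N, (ξ : G → ℂ) n = (ξ : G → ℂ) 1]
    (g : G) [Decidable (g ∈ N)] :
    ∑ ξ ∈ Finset.univ.filter (fun ξ : Cfsg.IrrCharacter G => ∀ n ∈ N, (ξ : G → ℂ) n =
      (ξ : G → ℂ) 1), (ξ : G → ℂ) g = if g ∈ N then (N.index : ℂ) else 0 := by
  rw [← sum_degree_mul_irr_of_le_ker N g]
  apply Finset.sum_congr rfl
  intro ξ hξ
  rw [Finset.mem_filter] at hξ
  rw [b46_F_lin N hab ξ hξ.2, one_mul]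

/-- `[χ_N, χ_N] = Σ_λ [λ χ, χ]` -/
theorem b46_F_inner [Fintype (Cfsg.IrrCharacter G)] (N : Subgroup G) [N.Normal] [Fintype N]
    (hab : ∀ a b : G, a * b * a⁻¹ * b⁻¹ ∈ N)
    [DecidablePred fun ξ : Cfsg.IrrCharacter G => ∀ n ∈ N, (ξ : G → ℂ) n = (ξ : G → ℂ) 1]
    (χ : G → ℂ) :
    Cfsg.classInner (fun n : N => χ n) (fun n : N => χ n) =
      ∑ ξ ∈ Finset.univ.filter (fun ξ : Cfsg.IrrCharacter G => ∀ n ∈ N, (ξ : G → ℂ) n =
        (ξ : G → ℂ) 1), Cfsg.classInner ((ξ : G → ℂ) * χ) χ := by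
  classical
  unfold Cfsg.classInner
  rw [← Finset.mul_sum, Finset.sum_comm]
  have h1 : ∀ g : G, ∑ ξ ∈ Finset.univ.filter (fun ξ : Cfsg.IrrCharacter G => ∀ n ∈ N,
      (ξ : G → ℂ) n = (ξ : G → ℂ) 1), ((ξ : G → ℂ) * χ) g * conj (χ g) =
      if g ∈ N then (N.index : ℂ) * (χ g * conj (χ g)) else 0 := by
    intro g
    have h2 := b46_F_sum N hab g
    simp only [Pi.mul_apply]
    simp_rw [mul_assoc]
    rw [← Finset.sum_mul, h2]
    split_ifs
    · rfl
    · rw [zero_mul]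
  simp_rw [h1]
  rw [Finset.sum_ite, Finset.sum_const_zero, add_zero, ← Finset.mul_sum]
  have h3 : ∑ g ∈ Finset.univ.filter (fun g : G => g ∈ N), χ g * conj (χ g) =
      ∑ n : N, χ n * conj (χ n) := by
    rw [Finset.sum_subtype (Finset.univ.filter (fun g : G => g ∈ N))
      (p := fun g => g ∈ N) (fun g => by simp) (fun g => χ g * conj (χ g))]
  rw [h3, ← mul_assoc]
  congr 1
  have hN0 : (Nat.card N : ℂ) ≠ 0 := by exact_mod_cast (Nat.card_pos (α := N)).ne'
  have hi0 : (N.index : ℂ) ≠ 0 := by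
    have : N.index ≠ 0 := Subgroup.index_ne_zero_of_finite
    exact_mod_cast this
  have hG : (Nat.card G : ℂ) = (Nat.card N : ℂ) * (N.index : ℂ) := by
    rw [← Subgroup.card_mul_index N]
    push_cast
    rfl
  rw [hG]
  field_simp

/-- a linear character times an irreducible character is irreducible -/
theorem b46_F_irr (ξ : Cfsg.IrrCharacter G) (h1 : (ξ : G → ℂ) 1 = 1) (χ : Cfsg.IrrCharacter G) :
    Cfsg.IsIrrCharacter G ((ξ : G → ℂ) * (χ : G → ℂ)) := by
  apply isIrrCharacter_of_classInner_self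
    (IsCharacter.mul (IsIrrCharacter.isCharacter ξ.2) (IsIrrCharacter.isCharacter χ.2))
  rw [← classInner_irr_self χ.2]
  unfold Cfsg.classInner
  congr 1
  apply Finset.sum_congr rfl
  intro g _
  have h2 := MultCh.linear_mul_conj ξ.2 h1 g
  simp only [Pi.mul_apply, map_mul]
  calc (ξ : G → ℂ) g * (χ : G → ℂ) g * (conj ((ξ : G → ℂ) g) * conj ((χ : G → ℂ) g))
      = ((ξ : G → ℂ) g * conj ((ξ : G → ℂ) g)) * ((χ : G → ℂ) g * conj ((χ : G → ℂ) g)) := by ring
    _ = _ := by rw [h2, one_mul]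

/-- **Piece [F]**: `G / N` an abelian `p`-group, `χ ∈ Irr(G)` with `χ_N` reducible: `χ` vanishes off a normal
subgroup `K ⊇ N` of index `p`. -/
theorem b46_F (p : ℕ) [Fact p.Prime] (N : Subgroup G) [N.Normal] (hNi : ∃ k : ℕ, N.index = p ^ k)
    (hab : ∀ a b : G, a * b * a⁻¹ * b⁻¹ ∈ N) (χ : Cfsg.IrrCharacter G)
    (hred : ¬ Cfsg.IsIrrCharacter N (fun n : N => (χ : G → ℂ) n)) :
    ∃ K : Subgroup G, K.Normal ∧ N ≤ K ∧ K.index = p ∧ ∀ g : G, g ∉ K → (χ : G → ℂ) g = 0 := by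
  classical
  haveI : Finite (Cfsg.IrrCharacter G) := irr_finite
  haveI : Fintype (Cfsg.IrrCharacter G) := Fintype.ofFinite _
  haveI : Fintype N := Fintype.ofFinite N
  set S := Finset.univ.filter (fun ξ : Cfsg.IrrCharacter G => ∀ n ∈ N, (ξ : G → ℂ) n =
    (ξ : G → ℂ) 1) with hS
  let triv : Cfsg.IrrCharacter G := ⟨fun _ => (1 : ℂ), isIrrCharacter_one⟩
  have htrivS : triv ∈ S := by
    rw [hS, Finset.mem_filter]
    exact ⟨Finset.mem_univ _, fun n _ => rfl⟩
  have htrivmul : (triv : G → ℂ) * (χ : G → ℂ) = (χ : G → ℂ) := by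
    ext g
    simp [triv]
  -- some nontrivial `ξ ∈ S` has `ξ χ = χ`
  have hex : ∃ ξ ∈ S, ξ ≠ triv ∧ (ξ : G → ℂ) * (χ : G → ℂ) = (χ : G → ℂ) := by
    by_contra hcon
    push Not at hcon
    apply hred
    apply isIrrCharacter_of_classInner_self
      (IsCharacter.restrict N (IsIrrCharacter.isCharacter χ.2))
    rw [b46_F_inner N hab (χ : G → ℂ)]
    rw [Finset.sum_eq_single_of_mem triv htrivS]
    · rw [htrivmul]
      exact classInner_irr_self χ.2
    · intro ξ hξ hne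
      have hξ1 : (ξ : G → ℂ) 1 = 1 := b46_F_lin N hab ξ (Finset.mem_filter.mp hξ).2
      exact classInner_irr_ne (b46_F_irr ξ hξ1 χ) χ.2 (hcon ξ hξ hne)
  obtain ⟨ξ, hξS, hξne, hξχ⟩ := hex
  have hξker : ∀ n ∈ N, (ξ : G → ℂ) n = (ξ : G → ℂ) 1 := (Finset.mem_filter.mp hξS).2
  have hξ1 : (ξ : G → ℂ) 1 = 1 := b46_F_lin N hab ξ hξker
  obtain ⟨lam, hlam⟩ := exists_hom_of_irr_degree_one ξ.2 hξ1
  have hNH : N ≤ lam.ker := by
    intro n hn
    rw [MonoidHom.mem_ker]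
    have h1 := hξker n hn
    rw [hξ1, hlam] at h1
    exact Units.ext h1
  have hH : lam.ker ≠ ⊤ := by
    intro htop
    apply hξne
    apply Subtype.ext
    show (ξ : G → ℂ) = fun _ => (1 : ℂ)
    rw [hlam]
    ext g
    have hg : g ∈ lam.ker := htop ▸ Subgroup.mem_top g
    rw [MonoidHom.mem_ker] at hg
    rw [hg, Units.val_one]
  obtain ⟨K, hKn, hHK, hKi⟩ := b46_F_exists_K p N lam.ker hNi hab hNH hH
  refine ⟨K, hKn, hNH.trans hHK, hKi, ?_⟩
  intro g hg
  have hgker : lam g ≠ 1 := fun h => hg (hHK (MonoidHom.mem_ker.mpr h))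
  have h1 : ((ξ : G → ℂ) * (χ : G → ℂ)) g = (χ : G → ℂ) g := by rw [hξχ]
  rw [Pi.mul_apply, hlam] at h1
  have h2 : (((lam g : ℂˣ) : ℂ) - 1) * (χ : G → ℂ) g = 0 := by
    rw [sub_mul, one_mul, h1, sub_self]
  rcases mul_eq_zero.mp h2 with h3 | h3
  · exfalso
    apply hgker
    apply Units.ext
    rw [Units.val_one]
    exact sub_eq_zero.mp h3
  · exact h3

end Cfsg.Agent.Blk46
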