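import Mathlib
import Cfsg.Prelude.Def_Characters
import Cfsg.Agent.Helper6.IrrBasis

set_option autoImplicit false
set_option linter.unusedSectionVars false

/-! S4640 swarm, piece [G] (helper7): fibre count.  If every member of `B` restricts to a member
of `b` and every member of `b` has exactly `|G : N|` extensions in `B`, then
`|B| = |G : N| · |b|`. -/

namespace Cfsg.Agent.Blk46

open Cfsg

universe u

variable {G : Type u} [Group G] [Fintype G]

/-- **Piece [G].** -/
theorem b46_G (N : Subgroup G) [N.Normal] (B : Set (Cfsg.IrrCharacter G))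
    (b : Set (Cfsg.IrrCharacter N))
    (h3 : ∀ χ ∈ B, ∃ θ ∈ b, ∀ n : N, (χ : G → ℂ) n = (θ : N → ℂ) n)
    (h4 : ∀ θ ∈ b, Nat.card {χ : Cfsg.IrrCharacter G //
      χ ∈ B ∧ ∀ n : N, (χ : G → ℂ) n = (θ : N → ℂ) n} = N.index) :
    Nat.card B = N.index * Nat.card b := by
  classical
  have : Finite (Cfsg.IrrCharacter G) := Cfsg.Agent.Helper6.irr_finite
  have : Finite (Cfsg.IrrCharacter N) := Cfsg.Agent.Helper6.irr_finite
  letI : Fintype ↥b := Fintype.ofFinite _
  -- `B` is equivalent to the sigma type of the fibres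
  let e : ↥B ≃ Σ θ : ↥b, {χ : Cfsg.IrrCharacter G //
      χ ∈ B ∧ ∀ n : N, (χ : G → ℂ) n = ((θ : Cfsg.IrrCharacter N) : N → ℂ) n} :=
    { toFun := fun χ =>
        ⟨⟨Classical.choose (h3 χ χ.2), (Classical.choose_spec (h3 χ χ.2)).1⟩,
          ⟨χ, χ.2, (Classical.choose_spec (h3 χ χ.2)).2⟩⟩
      invFun := fun x => ⟨x.2.1, x.2.2.1⟩
      left_inv := fun χ => rfl
      right_inv := by
        rintro ⟨⟨θ, hθ⟩, ⟨χ, hχB, hχθ⟩⟩
        have hθ' : Classical.choose (h3 χ hχB) = θ := by
          apply Subtype.ext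
          funext n
          rw [← (Classical.choose_spec (h3 χ hχB)).2 n, hχθ n]
        simp only
        congr 1
        · exact Subtype.ext hθ'
        · subst hθ'
          rfl }
  rw [Nat.card_congr e, Nat.card_sigma]
  have : ∀ θ : ↥b, Nat.card {χ : Cfsg.IrrCharacter G //
      χ ∈ B ∧ ∀ n : N, (χ : G → ℂ) n = ((θ : Cfsg.IrrCharacter N) : N → ℂ) n} = N.index :=
    fun θ => h4 θ θ.2
  simp only [this]
  rw [Finset.sum_const, Finset.card_univ, smul_eq_mul, Nat.card_eq_fintype_card, mul_comm]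

end Cfsg.Agent.Blk46
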